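import Mathlib

/-!
# Geometric irreducibility and the field of constants: the algebra (helper34)
-/

set_option autoImplicit false
set_option linter.style.haveILetI false
set_option linter.unnecessarySimpa false

namespace Groth.Agent.Lib.Helper34.Curve

open scoped TensorProduct

/-- If `A` is a domain over a field `k` with fraction field `K`, `L ⊆ K` is a finite separable
extension of `k`, and `Spec (A ⊗[k] L)` is irreducible, then `L = k`. -/
theorem algebraMap_surjective_of_irreducibleSpace {k A K L : Type*} [Field k] [CommRing A]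
    [IsDomain A] [Field K] [Field L]
    [Algebra k A] [Algebra A K] [Algebra k K] [IsScalarTower k A K] [IsFractionRing A K]
    [Algebra k L] [Algebra L K] [IsScalarTower k L K] [FiniteDimensional k L]
    [Algebra.IsSeparable k L]
    (hirr : IrreducibleSpace (PrimeSpectrum (A ⊗[k] L))) :
    Function.Surjective (algebraMap k L) := by
  classical
  -- Step 1: `A ⊗ L` is reduced
  haveI : Algebra.FormallyUnramified k L := Algebra.FormallyUnramified.of_isSeparable k L
  haveI hred1 : IsReduced (K ⊗[k] L) := Algebra.FormallyUnramified.isReduced_of_field K (K ⊗[k] L)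
  let ι : A ⊗[k] L →ₐ[k] K ⊗[k] L :=
    Algebra.TensorProduct.map (IsScalarTower.toAlgHom k A K) (AlgHom.id k L)
  have hι : Function.Injective ι := by
    have : (ι : A ⊗[k] L → K ⊗[k] L) =
        (LinearMap.rTensor L (IsScalarTower.toAlgHom k A K).toLinearMap) := by
      ext x
      induction x using TensorProduct.induction_on with
      | zero => simp
      | tmul a l => simp [ι]
      | add x y hx hy => simp only [map_add, hx, hy]
    rw [this]
    apply Module.Flat.rTensor_preserves_injective_linearMap
    exact IsFractionRing.injective A K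
  haveI hred : IsReduced (A ⊗[k] L) := isReduced_of_injective ι hι
  -- Step 2: `A ⊗ L` is a domain
  have hprime : (nilradical (A ⊗[k] L)).IsPrime :=
    PrimeSpectrum.irreducibleSpace_iff_isPrime_nilradical.1 hirr
  rw [nilradical_eq_zero] at hprime
  haveI hdom : IsDomain (A ⊗[k] L) := by
    have := (Ideal.Quotient.isDomain_iff_prime (⊥ : Ideal (A ⊗[k] L))).2 hprime
    exact (RingEquiv.quotientBot (A ⊗[k] L)).symm.toMulEquiv.isDomain
  -- Step 3: the multiplication map is injective
  let m : A ⊗[k] L →ₐ[k] K :=
    Algebra.TensorProduct.lift (IsScalarTower.toAlgHom k A K) (IsScalarTower.toAlgHom k L K)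
      (fun _ _ => Commute.all _ _)
  have hm : ∀ a l, m (a ⊗ₜ l) = algebraMap A K a * algebraMap L K l := by
    intro a l
    simp [m]
  haveI : Algebra.IsIntegral A (A ⊗[k] L) := Algebra.IsIntegral.of_finite A (A ⊗[k] L)
  have hker : RingHom.ker (m : A ⊗[k] L →+* K) = ⊥ := by
    apply Ideal.eq_bot_of_comap_eq_bot (R := A)
    rw [eq_bot_iff]
    intro a ha
    rw [Ideal.mem_comap, RingHom.mem_ker] at ha
    have h1 : (m : A ⊗[k] L →+* K) (algebraMap A (A ⊗[k] L) a) = algebraMap A K a := by
      rw [Algebra.TensorProduct.algebraMap_apply]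
      show m (_ ⊗ₜ 1) = _
      rw [hm]
      simp
    rw [h1] at ha
    rw [Ideal.mem_bot]
    exact (IsFractionRing.injective A K) (by rw [ha, map_zero])
  -- Step 4: linear independence
  intro l
  by_contra hl
  have hli : LinearIndependent k ![(1 : L), l] := by
    rw [LinearIndependent.pair_iff]
    intro s t hst
    by_cases ht : t = 0
    · subst ht
      simp only [zero_smul, add_zero] at hst
      refine ⟨?_, rfl⟩
      by_contra hs
      have : (1 : L) = 0 := by
        have := congrArg (fun z => s⁻¹ • z) hst
        simpa [smul_smul, inv_mul_cancel₀ hs] using this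
      exact one_ne_zero this
    · exfalso
      apply hl
      refine ⟨-(t⁻¹ * s), ?_⟩
      have h2 : t • l = -(s • (1 : L)) := by
        rw [eq_neg_iff_add_eq_zero, add_comm]
        exact hst
      have h3 : l = t⁻¹ • (t • l) := by rw [smul_smul, inv_mul_cancel₀ ht, one_smul]
      rw [h3, h2, Algebra.algebraMap_eq_smul_one, smul_neg, smul_smul, neg_smul]
  have hli2 := Module.Flat.linearIndependent_one_tmul (S := A) hli
  obtain ⟨a, b, hb, hab⟩ := IsFractionRing.div_surjective (A := A) (algebraMap L K l)
  have hb0 : b ≠ 0 := nonZeroDivisors.ne_zero hb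
  have hbK : algebraMap A K b ≠ 0 := by
    intro h
    exact hb0 ((IsFractionRing.injective A K) (by rw [h, map_zero]))
  have hzero : a • ((1 : A) ⊗ₜ[k] (1 : L)) + (-b) • ((1 : A) ⊗ₜ[k] l) = 0 := by
    have : m (a • ((1 : A) ⊗ₜ[k] (1 : L)) + (-b) • ((1 : A) ⊗ₜ[k] l)) = 0 := by
      rw [TensorProduct.smul_tmul', TensorProduct.smul_tmul', map_add, hm, hm]
      simp only [smul_eq_mul, mul_one, map_one, map_neg, neg_mul]
      rw [← hab]
      field_simp
      ring
    have hmem : (a • ((1 : A) ⊗ₜ[k] (1 : L)) + (-b) • ((1 : A) ⊗ₜ[k] l)) ∈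
        RingHom.ker (m : A ⊗[k] L →+* K) := this
    rw [hker] at hmem
    exact hmem
  have hfun : (fun x => (1 : A) ⊗ₜ[k] (![(1 : L), l] x)) =
      ![(1 : A) ⊗ₜ[k] (1 : L), (1 : A) ⊗ₜ[k] l] := by
    funext i
    fin_cases i <;> rfl
  rw [hfun] at hli2
  have := LinearIndependent.pair_iff.1 hli2 a (-b) hzero
  exact hb0 (neg_eq_zero.1 this.2)

end Groth.Agent.Lib.Helper34.Curve
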