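import Mathlib.AlgebraicGeometry.FunctionField
import Groth.Prelude.Def_CurvBase
import Groth.Prelude.Def_Curve
import Groth.Prelude.Def_W4bk4goldsch23FF
import Groth.Prelude.Def_Coh

/-!
# Curves as schemes and their function fields: basic set-up (helper34)
-/

set_option autoImplicit false

namespace Groth.Agent.Lib.Helper34.Curve

universe u

open AlgebraicGeometry CategoryTheory FunFld

variable (k : Type u) [Field k] (C : Scheme.{u}) [C.Over (Spec (CommRingCat.of k))] [IsIntegral C]

/-- The `k`-algebra structure on the function field. -/
noncomputable scoped instance algK : Algebra k C.functionField :=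
  Curv2.stalkAlgebra k C (genericPoint C)

/-- The `k`-algebra structure on the stalks. -/
noncomputable scoped instance algStalk (x : C) : Algebra k (C.presheaf.stalk x) :=
  Curv2.stalkAlgebra k C x

scoped instance towerStalk (x : C) : IsScalarTower k (C.presheaf.stalk x) C.functionField := by
  apply IsScalarTower.of_algebraMap_eq
  intro c
  show (Curv2.stalkMap k C (genericPoint C)) c =
    (C.presheaf.stalkSpecializes ((genericPoint_spec C).specializes trivial)).hom
      (Curv2.stalkMap k C x c)
  unfold Curv2.stalkMap
  simp only [RingHom.comp_apply]
  rw [← CommRingCat.comp_apply, TopCat.Presheaf.germ_stalkSpecializes]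

/-- The local ring at `x` as a subring of the function field. -/
noncomputable def O (x : C) : Subring C.functionField :=
  (algebraMap (C.presheaf.stalk x) C.functionField).range

/-- The structure map `k → Γ(C, U)`. -/
noncomputable def toSections (U : C.Opens) : k →+* Γ(C, U) :=
  (C.presheaf.map (homOfLE (le_top : U ≤ ⊤)).op).hom.comp
    (Coh.toGlobal (C ↘ Spec (CommRingCat.of k)))

lemma germ_toSections (U : C.Opens) (x : C) (hx : x ∈ U) (c : k) :
    C.presheaf.germ U x hx (toSections k C U c) = Curv2.stalkMap k C x c := by
  unfold toSections Curv2.stalkMap
  simp only [RingHom.comp_apply]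
  rw [← CommRingCat.comp_apply, TopCat.Presheaf.germ_res]

end Groth.Agent.Lib.Helper34.Curve
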