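import Groth.Agent.Lib.Helper34.Curve.Const
import Mathlib.AlgebraicGeometry.ValuativeCriterion

/-!
# Centres of valuation rings of the function field (helper34)
-/

set_option autoImplicit false
set_option linter.style.haveILetI false

namespace Groth.Agent.Lib.Helper34.Curve

universe u

open AlgebraicGeometry CategoryTheory FunFld IsLocalRing

variable (k : Type u) [Field k] (C : Scheme.{u}) [C.Over (Spec (CommRingCat.of k))] [IsIntegral C]

lemma fromSpecStalk_comp (x : C) :
    C.fromSpecStalk x ≫ (C ↘ Spec (CommRingCat.of k)) =
      Spec.map (CommRingCat.ofHom (Curv2.stalkMap k C x)) := by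
  obtain ⟨U, hU, hxU, -⟩ :=
    exists_isAffineOpen_mem_and_subset (X := C) (x := x) (U := ⊤) trivial
  rw [← hU.fromSpecStalk_eq_fromSpecStalk hxU, IsAffineOpen.fromSpecStalk, Category.assoc,
    fromSpec_comp, ← Spec.map_comp]
  congr 1
  ext c
  exact germ_toSections k C U x hxU c

/-- `V` dominates the local ring at `x`. -/
def IsCenter (V : ValuationSubring C.functionField) (x : C) : Prop :=
  (∀ a : C.presheaf.stalk x, algebraMap (C.presheaf.stalk x) C.functionField a ∈ V) ∧
    ∀ a ∈ maximalIdeal (C.presheaf.stalk x),
      V.valuation (algebraMap (C.presheaf.stalk x) C.functionField a) < 1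

/-- The data of a lift in the valuative square attached to a centre. -/
lemma isCenter_of_lift (V : ValuationSubring C.functionField)
    (l : Spec (CommRingCat.of V) ⟶ C)
    (hl : Spec.map (CommRingCat.ofHom V.subtype) ≫ l = C.fromSpecStalk (genericPoint C)) :
    IsCenter C V (l.base (closedPoint V)) := by
  obtain ⟨x, hxdef⟩ : ∃ x, x = l.base (closedPoint V) := ⟨_, rfl⟩
  rw [← hxdef]
  have hsp : genericPoint C ⤳ x := (genericPoint_spec C).specializes trivial
  let σ : C.presheaf.stalk (l.base (closedPoint V)) ⟶ CommRingCat.of V :=
    Scheme.stalkClosedPointTo l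
  have hσ : Spec.map σ ≫ C.fromSpecStalk _ = l := Scheme.Spec_stalkClosedPointTo_fromSpecStalk l
  subst hxdef
  have hring : σ ≫ CommRingCat.ofHom V.subtype = C.presheaf.stalkSpecializes hsp := by
    apply Spec.map_injective
    apply (cancel_mono (C.fromSpecStalk _)).1
    rw [Spec.map_comp, Category.assoc, hσ, hl, Scheme.SpecMap_stalkSpecializes_fromSpecStalk]
  have hval : ∀ a, algebraMap (C.presheaf.stalk (l.base (closedPoint V))) C.functionField a =
      ((σ.hom a : V) : C.functionField) := by
    intro a
    have := congrArg (fun f => f.hom a) hring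
    exact this.symm
  refine ⟨fun a => ?_, fun a ha => ?_⟩
  · rw [hval]
    exact (σ.hom a).2
  · rw [hval]
    have hloc : IsLocalHom σ.hom := inferInstanceAs (IsLocalHom (Scheme.stalkClosedPointTo l).hom)
    have h1 : σ.hom a ∈ maximalIdeal V := by
      rw [mem_maximalIdeal, mem_nonunits_iff] at ha ⊢
      exact fun hu => ha (hloc.map_nonunit a hu)
    exact (V.valuation_lt_one_iff _).mp h1

/-- The ring map `k → V` for a valuation ring containing `k`. -/
noncomputable def toV (V : ValuationSubring C.functionField)
    (hV : ∀ c : k, algebraMap k C.functionField c ∈ V) : k →+* V :=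
  (algebraMap k C.functionField).codRestrict V.toSubring hV

/-- The valuative square attached to a valuation ring of the function field containing `k`. -/
noncomputable def valSq (V : ValuationSubring C.functionField)
    (hV : ∀ c : k, algebraMap k C.functionField c ∈ V) :
    ValuativeCommSq (C ↘ Spec (CommRingCat.of k)) where
  R := V
  K := C.functionField
  i₁ := C.fromSpecStalk (genericPoint C)
  i₂ := Spec.map (CommRingCat.ofHom (toV k C V hV))
  commSq := ⟨by
    rw [fromSpecStalk_comp, ← Spec.map_comp]
    rfl⟩

/-- Existence of centres on a universally closed scheme over `k`. -/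
theorem exists_isCenter [UniversallyClosed (C ↘ Spec (CommRingCat.of k))]
    (V : ValuationSubring C.functionField)
    (hV : ∀ c : k, algebraMap k C.functionField c ∈ V) : ∃ x : C, IsCenter C V x := by
  have hex : ValuativeCriterion.Existence (C ↘ Spec (CommRingCat.of k)) := by
    have h : (ValuativeCriterion.Existence ⊓ @QuasiCompact) (C ↘ Spec (CommRingCat.of k)) := by
      rw [← UniversallyClosed.eq_valuativeCriterion]
      infer_instance
    exact h.1
  obtain ⟨⟨l, hl₁, -⟩⟩ := hex (valSq k C V hV)
  exact ⟨_, isCenter_of_lift C V l hl₁⟩

/-- The local ring map `O_x → V` of a centre. -/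
noncomputable def centerHom {V : ValuationSubring C.functionField} {x : C} (hx : IsCenter C V x) :
    C.presheaf.stalk x →+* V :=
  (algebraMap (C.presheaf.stalk x) C.functionField).codRestrict V.toSubring hx.1

lemma isLocalHom_centerHom {V : ValuationSubring C.functionField} {x : C} (hx : IsCenter C V x) :
    IsLocalHom (centerHom C hx) := ⟨fun a ha => by
  by_contra hna
  have hv := hx.2 a hna
  have h1 : V.valuation ((centerHom C hx a : V) : C.functionField) = 1 :=
    (V.valuation_eq_one_iff (centerHom C hx a)).1 ha
  exact (ne_of_lt hv) h1⟩

/-- The lift attached to a centre. -/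
noncomputable def centerLift {V : ValuationSubring C.functionField} {x : C} (hx : IsCenter C V x) :
    Spec (CommRingCat.of V) ⟶ C :=
  Spec.map (CommRingCat.ofHom (centerHom C hx)) ≫ C.fromSpecStalk x

lemma centerLift_closedPoint {V : ValuationSubring C.functionField} {x : C}
    (hx : IsCenter C V x) : (centerLift C hx).base (closedPoint V) = x := by
  unfold centerLift
  rw [Scheme.Hom.comp_apply]
  haveI := isLocalHom_centerHom C hx
  have h1 : Spec.map (CommRingCat.ofHom (centerHom C hx)) (closedPoint V) =
      closedPoint (C.presheaf.stalk x) := IsLocalRing.comap_closedPoint (centerHom C hx)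
  rw [h1, Scheme.fromSpecStalk_closedPoint]

/-- The lift structure attached to a centre. -/
noncomputable def centerLiftStruct (V : ValuationSubring C.functionField)
    (hV : ∀ c : k, algebraMap k C.functionField c ∈ V) {x : C} (hx : IsCenter C V x) :
    (valSq k C V hV).commSq.LiftStruct where
  l := centerLift C hx
  fac_left := by
    have hsp : genericPoint C ⤳ x := (genericPoint_spec C).specializes trivial
    change Spec.map (CommRingCat.ofHom V.subtype) ≫ Spec.map _ ≫ _ = C.fromSpecStalk _
    rw [← Category.assoc, ← Spec.map_comp]
    have : CommRingCat.ofHom (centerHom C hx) ≫ CommRingCat.ofHom V.subtype =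
        C.presheaf.stalkSpecializes hsp := rfl
    rw [this, Scheme.SpecMap_stalkSpecializes_fromSpecStalk]
  fac_right := by
    change (Spec.map _ ≫ _) ≫ _ = Spec.map _
    rw [Category.assoc, fromSpecStalk_comp, ← Spec.map_comp]
    congr 1
    ext c
    change algebraMap (C.presheaf.stalk x) C.functionField (Curv2.stalkMap k C x c) =
      algebraMap k C.functionField c
    exact (IsScalarTower.algebraMap_apply k (C.presheaf.stalk x) C.functionField c).symm

/-- Uniqueness of centres on a separated scheme over `k`. -/
theorem isCenter_unique [IsSeparated (C ↘ Spec (CommRingCat.of k))]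
    (V : ValuationSubring C.functionField)
    (hV : ∀ c : k, algebraMap k C.functionField c ∈ V) {x y : C}
    (hx : IsCenter C V x) (hy : IsCenter C V y) : x = y := by
  have hsub := IsSeparated.valuativeCriterion (C ↘ Spec (CommRingCat.of k)) (valSq k C V hV)
  have h := congrArg CommSq.LiftStruct.l
    (Subsingleton.elim (centerLiftStruct k C V hV hx) (centerLiftStruct k C V hV hy))
  change centerLift C hx = centerLift C hy at h
  rw [← centerLift_closedPoint C hx, ← centerLift_closedPoint C hy, h]

end Groth.Agent.Lib.Helper34.Curve
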