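import Groth.Agent.Lib.Helper34.Curve.Dim
import Groth.Agent.Lib.Helper34.Curve.AlgClosed

/-!
# The field of constants of a geometrically irreducible curve (helper34)
-/

set_option autoImplicit false
set_option linter.style.haveILetI false

namespace Groth.Agent.Lib.Helper34.Curve

universe u

open AlgebraicGeometry CategoryTheory FunFld Groth.Agent.Lib.Helper73
open scoped TensorProduct

variable (k : Type u) [Field k] (C : Scheme.{u}) [C.Over (Spec (CommRingCat.of k))] [IsIntegral C]

lemma fromSpec_comp {U : C.Opens} (hU : IsAffineOpen U) :
    hU.fromSpec ≫ (C ↘ Spec (CommRingCat.of k)) =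
      Spec.map (CommRingCat.ofHom (toSections k C U)) := by
  rw [← IsAffineOpen.SpecMap_appLE_fromSpec (C ↘ Spec (CommRingCat.of k))
    (isAffineOpen_top _) hU le_top]
  rw [IsAffineOpen.fromSpec_top, Scheme.isoSpec_Spec_inv, ← Spec.map_comp]
  rfl

lemma irreducibleSpace_tensor [GeometricallyIrreducible (C ↘ Spec (CommRingCat.of k))]
    {U : C.Opens} (hU : IsAffineOpen U) [Nonempty U]
    (L : Type u) [Field L] [Algebra k L] :
    letI : Algebra k Γ(C, U) := (toSections k C U).toAlgebra
    IrreducibleSpace (PrimeSpectrum (Γ(C, U) ⊗[k] L)) := by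
  letI : Algebra k Γ(C, U) := (toSections k C U).toAlgebra
  haveI : Nonempty (Spec Γ(C, U)) := inferInstanceAs (Nonempty (PrimeSpectrum Γ(C, U)))
  haveI : Surjective (hU.fromSpec ≫ (C ↘ Spec (CommRingCat.of k))) :=
    ⟨fun y => ⟨Classical.arbitrary _, Subsingleton.elim (α := PrimeSpectrum k) _ _⟩⟩
  have hgi : GeometricallyIrreducible (hU.fromSpec ≫ (C ↘ Spec (CommRingCat.of k))) :=
    inferInstance
  rw [fromSpec_comp] at hgi
  have h1 := pullback_of_geometrically hgi.1 L (Spec.map (CommRingCat.ofHom (algebraMap k L)))
  exact (pullbackSpecIso k Γ(C, U) L).hom.homeomorph.irreducibleSpace_iff.1 h1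

/-- For a geometrically irreducible integral scheme over a perfect field `k`, the field `k` is
algebraically closed in the function field. -/
theorem algebraic_mem_range [GeometricallyIrreducible (C ↘ Spec (CommRingCat.of k))]
    [LocallyOfFiniteType (C ↘ Spec (CommRingCat.of k))] [PerfectField k] (y : C.functionField) (hy : IsAlgebraic k y) :
    y ∈ Set.range (algebraMap k C.functionField) := by
  obtain ⟨U, hU, hxU, -⟩ :=
    exists_isAffineOpen_mem_and_subset (X := C) (x := genericPoint C) (U := ⊤) trivial
  haveI : Nonempty U := ⟨⟨_, hxU⟩⟩
  letI : Algebra k Γ(C, U) := (toSections k C U).toAlgebra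
  haveI : IsScalarTower k Γ(C, U) C.functionField :=
    IsScalarTower.of_algebraMap_eq (fun c => (germ_toSections k C U _ _ c).symm)
  haveI := functionField_isFractionRing_of_isAffineOpen C U hU
  have hfd : FiniteDimensional k (IntermediateField.adjoin k ({y} : Set C.functionField)) :=
    IntermediateField.adjoin.finiteDimensional hy.isIntegral
  haveI : Algebra.IsSeparable k (IntermediateField.adjoin k ({y} : Set C.functionField)) :=
    Algebra.IsAlgebraic.isSeparable_of_perfectField
  have hsurj := algebraMap_surjective_of_irreducibleSpace (k := k) (A := Γ(C, U))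
    (K := C.functionField) (L := IntermediateField.adjoin k ({y} : Set C.functionField))
    (irreducibleSpace_tensor k C hU _)
  obtain ⟨c, hc⟩ := hsurj ⟨y, IntermediateField.mem_adjoin_simple_self k y⟩
  refine ⟨c, ?_⟩
  have := congrArg (algebraMap (IntermediateField.adjoin k ({y} : Set C.functionField))
    C.functionField) hc
  rw [← IsScalarTower.algebraMap_apply] at this
  exact this

/-- The function field of a geometrically irreducible curve over a perfect field is a function
field of one variable with full constant field `k`. -/
theorem isFunctionField [GeometricallyIrreducible (C ↘ Spec (CommRingCat.of k))]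
    [LocallyOfFiniteType (C ↘ Spec (CommRingCat.of k))]
    [PerfectField k] (hdim : topologicalKrullDim C = 1) :
    IsFunctionField k C.functionField :=
  ⟨exists_transcendental_finite_functionField k C hdim, algebraic_mem_range k C⟩

end Groth.Agent.Lib.Helper34.Curve
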