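import Groth.Agent.Lib.Helper34.Curve.Residue
import Groth.Agent.Lib.Helper33.ZetaPts
import Groth.Agent.Lib.Helper34.FunFldZetaLog

/-!
# Points of a curve over a finite field and the numbers `N_r` of its function field (helper34)
-/

set_option autoImplicit false
set_option linter.style.haveILetI false

namespace Groth.Agent.Lib.Helper34.Curve

universe u

open AlgebraicGeometry CategoryTheory FunFld IsLocalRing Groth.Agent.Lib.Helper88.FF
open Groth.Agent.Lib.Helper33.ZetaCount Groth.Agent.Lib.Helper33.ZetaPts
open Groth.Agent.Lib.Helper34.FunFldZetaLog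

variable (k : Type u) [Field k] (C : Scheme.{u}) [C.Over (Spec (CommRingCat.of k))] [IsIntegral C]
  [Finite k]

lemma resAlg_eq (x : C) :
    resAlg (C ↘ Spec (CommRingCat.of k)) x = CommRingCat.ofHom (Curv2.resMap k C x) := by
  apply Spec.map_injective
  rw [SpecMap_resAlg, Scheme.fromSpecResidueField, Category.assoc, fromSpecStalk_comp,
    ← Spec.map_comp]
  rfl

lemma residueDegree_eq (x : C) :
    letI := Curv2.resAlgebra k C x
    EGA4loc.residueDegree (C ↘ Spec (CommRingCat.of k)) x = Module.finrank k (C.residueField x) := by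
  rw [residueDegree_eq_finrank]
  congr 1
  rw [resAlg_eq]

variable [Smooth (C ↘ Spec (CommRingCat.of k))] [IsProper (C ↘ Spec (CommRingCat.of k))]
  [GeometricallyIrreducible (C ↘ Spec (CommRingCat.of k))]
  (hdim : topologicalKrullDim C = 1)

/-- Closed points of degree `e` correspond to places of degree `e`. -/
noncomputable def degEquiv (e : ℕ) :
    {x : C // IsClosed ({x} : Set C) ∧
      EGA4loc.residueDegree (C ↘ Spec (CommRingCat.of k)) x = e} ≃
    {P : Place k C.functionField // P.deg = e} where
  toFun x := ⟨placeOf k C hdim x.1 ((ne_genericPoint_iff k C hdim).2 x.2.1), by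
    rw [← finrank_residueField k C hdim x.1 ((ne_genericPoint_iff k C hdim).2 x.2.1),
      ← residueDegree_eq]
    exact x.2.2⟩
  invFun P := ⟨center k C P.1,
    (ne_genericPoint_iff k C hdim).1 (center_ne_genericPoint k C P.1), by
    rw [residueDegree_eq, finrank_residueField k C hdim _ (center_ne_genericPoint k C P.1),
      placeOf_center]
    exact P.2⟩
  left_inv x := Subtype.ext
    (center_placeOf k C hdim x.1 ((ne_genericPoint_iff k C hdim).2 x.2.1))
  right_inv P := Subtype.ext (placeOf_center k C hdim _)

/-- `N_m` of the curve is `N_m` of its function field. -/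
theorem nPts_eq_Nr {m : ℕ} (hm : m ≠ 0) :
    Zeta.nPts (C ↘ Spec (CommRingCat.of k)) m = Nr (isFunctionField k C hdim) m := by
  classical
  have hK := isFunctionField k C hdim
  unfold Zeta.nPts Zeta.degCount Nr
  have hmaps : ∀ P ∈ (Pl hK m).filter (fun P => P.deg ∣ m), P.deg ∈ m.divisors := by
    intro P hP
    exact Nat.mem_divisors.2 ⟨(Finset.mem_filter.1 hP).2, hm⟩
  rw [← Finset.sum_fiberwise_of_maps_to hmaps]
  refine Finset.sum_congr rfl fun e he => ?_
  rw [Nat.card_congr (degEquiv k C hdim e)]
  have hcard : Nat.card {P : Place k C.functionField // P.deg = e} =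
      (((Pl hK m).filter (fun P => P.deg ∣ m)).filter (fun P => P.deg = e)).card := by
    rw [Nat.subtype_card]
    intro P
    simp only [Finset.mem_filter, mem_Pl]
    constructor
    · rintro ⟨⟨-, -⟩, h⟩
      exact h
    · intro h
      have hdvd : P.deg ∣ m := h ▸ (Nat.mem_divisors.1 he).1
      exact ⟨⟨Nat.le_of_dvd (Nat.pos_of_ne_zero hm) hdvd, hdvd⟩, h⟩
  rw [hcard, Finset.card_eq_sum_ones, Finset.mul_sum]
  refine Finset.sum_congr rfl fun P hP => ?_
  rw [mul_one, (Finset.mem_filter.1 hP).2]

/-- The number of `k'`-points of the curve is `N_n` of its function field, `n = [k' : k]`. -/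
theorem pointCount_eq_Nr (k' : Type u) [Field k'] [Algebra k k'] [Finite k'] :
    SgaExt.pointCount (C ↘ Spec (CommRingCat.of k)) k' =
      Nr (isFunctionField k C hdim) (Module.finrank k k') := by
  rw [pointCount_eq_nPts]
  exact nPts_eq_Nr k C hdim Module.finrank_pos.ne'

end Groth.Agent.Lib.Helper34.Curve
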