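import Mathlib

/-!
# Finitely generated fields of transcendence degree one (helper34)
-/

set_option autoImplicit false

namespace Groth.Agent.Lib.Helper34.Curve

/-- A field `K` that is the fraction field of a `k`-algebra of finite type and has transcendence
degree one over `k` is finite over `k(t)` for some transcendental `t`. -/
theorem exists_transcendental_finite {k A K : Type*} [Field k] [CommRing A] [Field K]
    [Algebra k A] [Algebra A K] [Algebra k K] [IsScalarTower k A K] [IsFractionRing A K]
    [Algebra.FiniteType k A] (htr : Algebra.trdeg k K = 1) :
    ∃ t : K, Transcendental k t ∧ FiniteDimensional (IntermediateField.adjoin k ({t} : Set K)) K := by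
  classical
  -- a transcendental element
  obtain ⟨t, ht⟩ : ∃ t : K, Transcendental k t := by
    by_contra hcon
    push Not at hcon
    have halg : Algebra.IsAlgebraic k K := ⟨fun x => by
      have := hcon x
      rwa [Transcendental, not_not] at this⟩
    rw [trdeg_eq_zero] at htr
    exact zero_ne_one htr
  refine ⟨t, ht, ?_⟩
  have hind : AlgebraicIndependent k (fun _ : Unit => t) :=
    algebraicIndependent_unique_type_iff.2 ht
  have hbasis : IsTranscendenceBasis k (fun _ : Unit => t) :=
    hind.isTranscendenceBasis_of_lift_trdeg_le_of_finite (by simp [htr])
  have halg2 : Algebra.IsAlgebraic (IntermediateField.adjoin k ({t} : Set K)) K := by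
    have := hbasis.isAlgebraic_field
    rwa [Set.range_const] at this
  -- generators
  obtain ⟨s, hs⟩ := (Algebra.FiniteType.out : (⊤ : Subalgebra k A).FG)
  obtain ⟨S, hSdef⟩ : ∃ S : Set K, S = (algebraMap A K) '' (s : Set A) := ⟨_, rfl⟩
  haveI : Finite S := by
    rw [hSdef]
    exact (s.finite_toSet.image _).to_subtype
  have hfd := IntermediateField.finiteDimensional_adjoin
    (K := IntermediateField.adjoin k ({t} : Set K)) (S := S)
    (fun x _ => (halg2.isAlgebraic x).isIntegral)
  have htop : IntermediateField.adjoin (IntermediateField.adjoin k ({t} : Set K)) S = ⊤ := by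
    rw [eq_top_iff]
    intro z _
    -- the image of `A` lies in the adjoin
    have hA : ∀ a : A, algebraMap A K a ∈
        IntermediateField.adjoin (IntermediateField.adjoin k ({t} : Set K)) S := by
      intro a
      have ha : a ∈ Algebra.adjoin k (s : Set A) := by rw [hs]; trivial
      induction ha using Algebra.adjoin_induction with
      | mem x hx =>
        apply IntermediateField.subset_adjoin
        rw [hSdef]
        exact ⟨x, hx, rfl⟩
      | algebraMap c =>
        rw [← IsScalarTower.algebraMap_apply k A K,
          IsScalarTower.algebraMap_apply k (IntermediateField.adjoin k ({t} : Set K)) K]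
        exact IntermediateField.algebraMap_mem _ _
      | add x y _ _ hx hy =>
        rw [map_add]
        exact add_mem hx hy
      | mul x y _ _ hx hy =>
        rw [map_mul]
        exact mul_mem hx hy
    obtain ⟨a, b, hb, rfl⟩ := IsFractionRing.div_surjective (A := A) z
    exact div_mem (hA a) (hA b)
  rw [htop] at hfd
  exact (IntermediateField.topEquiv (F := IntermediateField.adjoin k ({t} : Set K))
    (E := K)).toLinearEquiv.finiteDimensional

end Groth.Agent.Lib.Helper34.Curve
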