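import Groth.Agent.Lib.Helper34.Curve.Basic
import Groth.Agent.Lib.Helper73.DimFormula.GenericLocus
import Groth.Agent.Lib.Helper34.Curve.FG

/-!
# Dimension one: points of a curve, transcendence degree of the function field (helper34)
-/

set_option autoImplicit false

namespace Groth.Agent.Lib.Helper34.Curve

universe u

open AlgebraicGeometry CategoryTheory FunFld Groth.Agent.Lib.Helper73

variable (k : Type u) [Field k] (C : Scheme.{u}) [C.Over (Spec (CommRingCat.of k))] [IsIntegral C]
  [LocallyOfFiniteType (C ↘ Spec (CommRingCat.of k))]

section dim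

variable (hdim : topologicalKrullDim C = 1)

include hdim in
lemma trdegNat_genericPoint : trdegNat (C ↘ Spec (CommRingCat.of k)) (genericPoint C) = 1 := by
  have h := topologicalKrullDim_eq_trdegNat_genericPoint (C ↘ Spec (CommRingCat.of k))
  rw [hdim] at h
  exact_mod_cast h.symm

include hdim in
/-- A point of a curve other than the generic point is closed, with residue field algebraic
over `k`. -/
lemma trdegNat_eq_zero_of_ne {x : C} (hx : x ≠ genericPoint C) :
    trdegNat (C ↘ Spec (CommRingCat.of k)) x = 0 := by
  have h1 := (isDimFun_trdegNat (C ↘ Spec (CommRingCat.of k))).lt_of_specializes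
    (genericPoint_specializes x) (Ne.symm hx)
  rw [trdegNat_genericPoint k C hdim] at h1
  omega

include k hdim in
lemma isClosed_of_ne {x : C} (hx : x ≠ genericPoint C) : IsClosed ({x} : Set C) := by
  have h0 := trdegNat_eq_zero_of_ne k C hdim hx
  rw [← closure_eq_iff_isClosed]
  apply Set.Subset.antisymm _ subset_closure
  intro y hy
  have hxy : x ⤳ y := specializes_iff_mem_closure.mpr hy
  by_contra hne
  have := (isDimFun_trdegNat (C ↘ Spec (CommRingCat.of k))).lt_of_specializes hxy
    (fun h => hne (by rw [Set.mem_singleton_iff]; exact h.symm))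
  omega

include k hdim in
lemma not_isClosed_genericPoint : ¬ IsClosed ({genericPoint C} : Set C) := by
  intro hcl
  have := trdegNat_eq_zero_of_isClosed (C ↘ Spec (CommRingCat.of k)) hcl
  rw [trdegNat_genericPoint k C hdim] at this
  exact one_ne_zero this

include k hdim in
lemma ne_genericPoint_iff {x : C} : x ≠ genericPoint C ↔ IsClosed ({x} : Set C) :=
  ⟨isClosed_of_ne k C hdim, fun h he => not_isClosed_genericPoint k C hdim (he ▸ h)⟩

end dim

section ff

/-- The function field is the residue field at the generic point. -/
noncomputable def residueEquiv : C.functionField ≃+* C.residueField (genericPoint C) :=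
  RingEquiv.ofBijective (C.residue (genericPoint C)).hom
    ⟨RingHom.injective _, IsLocalRing.residue_surjective⟩

lemma residueEquiv_comp :
    (residueEquiv C).toRingHom.comp (Curv2.stalkMap k C (genericPoint C)) =
      resMapOf (C ↘ Spec (CommRingCat.of k)) (genericPoint C) := rfl

variable (hdim : topologicalKrullDim C = 1)

include hdim in
lemma trdeg_functionField : Algebra.trdeg k C.functionField = 1 := by
  have h1 := trdeg_eq_of_ringEquiv (Curv2.stalkMap k C (genericPoint C))
    (resMapOf (C ↘ Spec (CommRingCat.of k)) (genericPoint C)) (residueEquiv C)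
    (residueEquiv_comp k C)
  have h2 := trdeg_eq_trdegNat (C ↘ Spec (CommRingCat.of k)) (genericPoint C)
  rw [trdegNat_genericPoint k C hdim] at h2
  rw [h2] at h1
  simpa using h1

lemma toSections_finiteType {U : C.Opens} (hU : IsAffineOpen U) :
    (toSections k C U).FiniteType := by
  have h1 := (C ↘ Spec (CommRingCat.of k)).finiteType_appLE
    (isAffineOpen_top (Spec (CommRingCat.of k))) hU (U := ⊤) (V := U) le_top
  have h2 : toSections k C U = ((C ↘ Spec (CommRingCat.of k)).appLE ⊤ U le_top).hom.comp
      (Scheme.ΓSpecIso (CommRingCat.of k)).inv.hom := by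
    ext c
    rfl
  rw [h2]
  refine h1.comp ?_
  exact RingHom.FiniteType.of_surjective _
    (ConcreteCategory.bijective_of_isIso (Scheme.ΓSpecIso (CommRingCat.of k)).inv).2

include hdim in
/-- The function field of a curve is finite over `k(t)` for some transcendental `t`. -/
theorem exists_transcendental_finite_functionField :
    ∃ t : C.functionField, Transcendental k t ∧
      FiniteDimensional (IntermediateField.adjoin k ({t} : Set C.functionField))
        C.functionField := by
  obtain ⟨U, hU, hxU, -⟩ :=
    exists_isAffineOpen_mem_and_subset (X := C) (x := genericPoint C) (U := ⊤) trivial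
  haveI : Nonempty U := ⟨⟨_, hxU⟩⟩
  letI : Algebra k Γ(C, U) := (toSections k C U).toAlgebra
  haveI : IsScalarTower k Γ(C, U) C.functionField :=
    IsScalarTower.of_algebraMap_eq (fun c => (germ_toSections k C U _ _ c).symm)
  haveI : Algebra.FiniteType k Γ(C, U) := toSections_finiteType k C hU
  haveI := functionField_isFractionRing_of_isAffineOpen C U hU
  exact exists_transcendental_finite (A := Γ(C, U)) (trdeg_functionField k C hdim)

end ff

end Groth.Agent.Lib.Helper34.Curve
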