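import Groth.Agent.Lib.Helper34.Curve.Center
import Groth.Agent.Lib.Helper30.SmoothRegular
import Groth.Agent.Lib.Helper22.DedekindFree

/-!
# Local rings of a smooth curve are valuation rings (helper34)
-/

set_option autoImplicit false
set_option linter.style.haveILetI false

namespace Groth.Agent.Lib.Helper34.Curve

universe u

open AlgebraicGeometry CategoryTheory FunFld IsLocalRing

variable (k : Type u) [Field k] (C : Scheme.{u}) [C.Over (Spec (CommRingCat.of k))] [IsIntegral C]

/-- If the local ring at `x` is a field, then `x` is the generic point. -/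
lemma eq_genericPoint_of_isField {x : C} (h : IsField (C.presheaf.stalk x)) :
    x = genericPoint C := by
  have hsp : genericPoint C ⤳ x := (genericPoint_spec C).specializes trivial
  have hmem : genericPoint C ∈ Set.range (C.fromSpecStalk x) := by
    rw [Scheme.range_fromSpecStalk]
    exact hsp
  obtain ⟨p, hp⟩ := hmem
  have hmax : maximalIdeal (C.presheaf.stalk x) = ⊥ :=
    IsLocalRing.isField_iff_maximalIdeal_eq.1 h
  have hp' : p = closedPoint (C.presheaf.stalk x) := by
    apply PrimeSpectrum.ext
    have h1 : p.asIdeal ≤ maximalIdeal (C.presheaf.stalk x) :=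
      IsLocalRing.le_maximalIdeal p.2.ne_top
    rw [hmax] at h1
    change p.asIdeal = maximalIdeal (C.presheaf.stalk x)
    rw [hmax]
    exact le_bot_iff.1 h1
  rw [← hp, hp', Scheme.fromSpecStalk_closedPoint]

variable [Smooth (C ↘ Spec (CommRingCat.of k))] (hdim : topologicalKrullDim C = 1)

include k hdim in
lemma valuationRing_stalk (x : C) : ValuationRing (C.presheaf.stalk x) := by
  haveI := Groth.Agent.Lib.Helper30.SmoothRegular.stalk_regular_of_smooth_field k
    (C ↘ Spec (CommRingCat.of k)) x
  haveI : IsPrincipalIdealRing (C.presheaf.stalk x) :=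
    Groth.Agent.Lib.Helper22.DedekindFree.isPrincipalIdealRing_of_regular_of_dim_le_one _
      ((Groth.Agent.Lib.Helper22.DedekindFree.ringKrullDim_stalk_le C x).trans hdim.le)
  exact ValuationRing.iff_local_bezout_domain.2 ⟨inferInstance, inferInstance⟩

/-- The local ring at `x` as a valuation subring of the function field. -/
noncomputable def Oval (x : C) : ValuationSubring C.functionField :=
  { O C x with
    mem_or_inv_mem' := fun z => by
      haveI := valuationRing_stalk k C hdim x
      rcases ValuationRing.isInteger_or_isInteger (C.presheaf.stalk x) z with ⟨a, ha⟩ | ⟨a, ha⟩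
      · exact Or.inl ⟨a, ha⟩
      · exact Or.inr ⟨a, ha⟩ }

lemma mem_Oval {x : C} {z : C.functionField} :
    z ∈ Oval k C hdim x ↔ ∃ a, algebraMap (C.presheaf.stalk x) C.functionField a = z := Iff.rfl

omit [Smooth (C ↘ Spec (CommRingCat.of k))] in
lemma exists_not_mem_O {x : C} (hx : x ≠ genericPoint C) : ∃ z : C.functionField, z ∉ O C x := by
  by_contra hcon
  push Not at hcon
  apply hx
  apply eq_genericPoint_of_isField
  have hinj := IsFractionRing.injective (C.presheaf.stalk x) C.functionField
  have hbij : Function.Bijective (algebraMap (C.presheaf.stalk x) C.functionField) :=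
    ⟨hinj, fun z => hcon z⟩
  exact (RingEquiv.ofBijective _ hbij).toMulEquiv.isField (Field.toIsField C.functionField)

end Groth.Agent.Lib.Helper34.Curve
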