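import Groth.Agent.Lib.Helper34.Curve.Dvr
import Groth.Agent.Lib.Helper88.FunFldExist
import Groth.Agent.Lib.Helper88.FunFldApprox

/-!
# Closed points of a smooth proper curve and places of its function field (helper34)
-/

set_option autoImplicit false
set_option linter.style.haveILetI false

namespace Groth.Agent.Lib.Helper34.Curve

universe u

open AlgebraicGeometry CategoryTheory FunFld IsLocalRing Groth.Agent.Lib.Helper88.FF

variable (k : Type u) [Field k] (C : Scheme.{u}) [C.Over (Spec (CommRingCat.of k))] [IsIntegral C]

lemma mem_O_genericPoint (z : C.functionField) : z ∈ O C (genericPoint C) := by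
  refine ⟨z, ?_⟩
  change (C.presheaf.stalkSpecializes _).hom z = z
  rw [TopCat.Presheaf.stalkSpecializes_refl]
  rfl

lemma algebraMap_mem_O (x : C) (c : k) : algebraMap k C.functionField c ∈ O C x :=
  ⟨algebraMap k (C.presheaf.stalk x) c,
    (IsScalarTower.algebraMap_apply k (C.presheaf.stalk x) C.functionField c).symm⟩

variable [Smooth (C ↘ Spec (CommRingCat.of k))] [IsProper (C ↘ Spec (CommRingCat.of k))]
  [GeometricallyIrreducible (C ↘ Spec (CommRingCat.of k))] [PerfectField k]
  (hdim : topologicalKrullDim C = 1)

/-- The place of the function field attached to a closed point. -/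
noncomputable def placeOf (x : C) (hx : x ≠ genericPoint C) : Place k C.functionField :=
  Classical.choose (exists_place_of_valuationSubring (isFunctionField k C hdim)
    (Oval k C hdim x) (algebraMap_mem_O k C x) (Classical.choose_spec (exists_not_mem_O C hx)))

lemma placeOf_spec (x : C) (hx : x ≠ genericPoint C) (w : C.functionField) :
    (placeOf k C hdim x hx).1 w ≤ 1 ↔ w ∈ O C x :=
  Classical.choose_spec (exists_place_of_valuationSubring (isFunctionField k C hdim)
    (Oval k C hdim x) (algebraMap_mem_O k C x) (Classical.choose_spec (exists_not_mem_O C hx))) w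

omit [Smooth (C ↘ Spec (CommRingCat.of k))] [GeometricallyIrreducible (C ↘ Spec (CommRingCat.of k))]
  [PerfectField k] in
lemma exists_center (P : Place k C.functionField) : ∃ x : C, IsCenter C P.O x :=
  exists_isCenter k C P.O (fun c => (Valuation.mem_valuationSubring_iff _ _).2 (P.2.1 c))

/-- The centre of a place. -/
noncomputable def center (P : Place k C.functionField) : C :=
  Classical.choose (exists_center k C P)

omit [Smooth (C ↘ Spec (CommRingCat.of k))] [GeometricallyIrreducible (C ↘ Spec (CommRingCat.of k))]
  [PerfectField k] in
lemma isCenter_center (P : Place k C.functionField) : IsCenter C P.O (center k C P) :=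
  Classical.choose_spec (exists_center k C P)

omit [Smooth (C ↘ Spec (CommRingCat.of k))] [GeometricallyIrreducible (C ↘ Spec (CommRingCat.of k))]
  [PerfectField k] in
lemma center_ne_genericPoint (P : Place k C.functionField) : center k C P ≠ genericPoint C := by
  intro h
  have h1 := (isCenter_center k C P).1
  rw [h] at h1
  obtain ⟨t, ht⟩ := exists_uniformizer P
  obtain ⟨a, ha⟩ := mem_O_genericPoint C t⁻¹
  have h2 := h1 a
  rw [ha, Valuation.mem_valuationSubring_iff, map_inv₀, ht, ← WithZero.exp_neg, neg_neg] at h2
  have : (1 : WithZero (Multiplicative ℤ)) = WithZero.exp (0 : ℤ) := rfl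
  rw [this, WithZero.exp_le_exp] at h2
  omega

lemma placeOf_center (P : Place k C.functionField) :
    placeOf k C hdim (center k C P) (center_ne_genericPoint k C P) = P := by
  apply place_eq_of_le
  intro y hy
  rw [placeOf_spec] at hy
  obtain ⟨a, rfl⟩ := hy
  exact (Valuation.mem_valuationSubring_iff _ _).1 ((isCenter_center k C P).1 a)

include hdim in
lemma mem_O_center (P : Place k C.functionField) (w : C.functionField) :
    w ∈ O C (center k C P) ↔ P.1 w ≤ 1 := by
  rw [← placeOf_spec k C hdim _ (center_ne_genericPoint k C P), placeOf_center]

lemma isCenter_placeOf (x : C) (hx : x ≠ genericPoint C) :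
    IsCenter C (placeOf k C hdim x hx).O x := by
  refine ⟨fun a => ?_, fun a ha => ?_⟩
  · rw [Valuation.mem_valuationSubring_iff, placeOf_spec]
    exact ⟨a, rfl⟩
  · by_contra hcon
    rw [not_lt] at hcon
    have hle : (placeOf k C hdim x hx).O.valuation
        (algebraMap (C.presheaf.stalk x) C.functionField a) ≤ 1 := by
      rw [ValuationSubring.valuation_le_one_iff, Valuation.mem_valuationSubring_iff, placeOf_spec]
      exact ⟨a, rfl⟩
    have heq := le_antisymm hle hcon
    have hinv : (placeOf k C hdim x hx).O.valuation
        (algebraMap (C.presheaf.stalk x) C.functionField a)⁻¹ ≤ 1 := by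
      rw [map_inv₀, heq, inv_one]
    rw [ValuationSubring.valuation_le_one_iff, Valuation.mem_valuationSubring_iff,
      placeOf_spec] at hinv
    obtain ⟨b, hb⟩ := hinv
    have ha0 : algebraMap (C.presheaf.stalk x) C.functionField a ≠ 0 := by
      intro h0
      rw [h0, map_zero] at heq
      exact zero_ne_one heq
    have hab : a * b = 1 := by
      apply IsFractionRing.injective (C.presheaf.stalk x) C.functionField
      rw [map_mul, hb, map_one, mul_inv_cancel₀ ha0]
    exact ha (IsUnit.of_mul_eq_one b hab)

lemma center_placeOf (x : C) (hx : x ≠ genericPoint C) :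
    center k C (placeOf k C hdim x hx) = x :=
  isCenter_unique k C (placeOf k C hdim x hx).O
    (fun c => (Valuation.mem_valuationSubring_iff _ _).2 ((placeOf k C hdim x hx).2.1 c))
    (isCenter_center k C _) (isCenter_placeOf k C hdim x hx)

/-- Closed points of the curve correspond to places of the function field. -/
noncomputable def placeEquiv : {x : C // x ≠ genericPoint C} ≃ Place k C.functionField where
  toFun x := placeOf k C hdim x.1 x.2
  invFun P := ⟨center k C P, center_ne_genericPoint k C P⟩
  left_inv x := Subtype.ext (center_placeOf k C hdim x.1 x.2)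
  right_inv P := placeOf_center k C hdim P

include hdim in
lemma center_injective : Function.Injective (center k C) := by
  intro P Q h
  have := congrArg Subtype.val
    ((placeEquiv k C hdim).symm.injective (a₁ := P) (a₂ := Q) (Subtype.ext h))
  exact Subtype.ext this

end Groth.Agent.Lib.Helper34.Curve
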