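import Groth.Agent.Lib.Helper34.Curve.Places
import Groth.Agent.Lib.Helper88.FunFldZeros

/-!
# A rational function on a curve is regular away from finitely many closed points (helper34)
-/

set_option autoImplicit false
set_option linter.style.haveILetI false

namespace Groth.Agent.Lib.Helper34.Curve

universe u

open AlgebraicGeometry CategoryTheory FunFld IsLocalRing Groth.Agent.Lib.Helper88.FF

variable (k : Type u) [Field k] (C : Scheme.{u}) [C.Over (Spec (CommRingCat.of k))] [IsIntegral C]
  [Smooth (C ↘ Spec (CommRingCat.of k))] [IsProper (C ↘ Spec (CommRingCat.of k))]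
  [GeometricallyIrreducible (C ↘ Spec (CommRingCat.of k))] [PerfectField k]
  (hdim : topologicalKrullDim C = 1)

include k hdim in
/-- A rational function has finitely many poles. -/
theorem finite_not_mem_O (c : C.functionField) : {x : C | c ∉ O C x}.Finite := by
  have hK := isFunctionField k C hdim
  refine ((finite_support_ord hK c).image (center k C)).subset ?_
  intro x hx
  rw [Set.mem_setOf_eq] at hx
  have hxg : x ≠ genericPoint C := by
    rintro rfl
    exact hx (mem_O_genericPoint C c)
  refine ⟨placeOf k C hdim x hxg, ?_, center_placeOf k C hdim x hxg⟩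
  rw [Function.mem_support]
  intro h0
  apply hx
  rw [← placeOf_spec k C hdim x hxg]
  by_cases hc : c = 0
  · rw [hc, map_zero]
    exact zero_le_one
  · rw [val_le_one_iff _ hc, h0]

include k hdim in
/-- Finite sets of closed points are closed. -/
lemma isClosed_of_finite {s : Set C} (hs : s.Finite) (h : ∀ x ∈ s, x ≠ genericPoint C) :
    IsClosed s := by
  have : s = ⋃ x ∈ s, {x} := by simp
  rw [this]
  exact hs.isClosed_biUnion fun x hx => isClosed_of_ne k C hdim (h x hx)

include k hdim in
/-- Around any point, a rational function is regular on a punctured neighbourhood. -/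
theorem exists_nhd_mem_O (c : C.functionField) (y : C) :
    ∃ V : C.Opens, y ∈ V ∧ ∀ x ∈ V, x ≠ y → c ∈ O C x := by
  have hfin : ({x : C | c ∉ O C x} \ {y}).Finite := (finite_not_mem_O k C hdim c).subset
    Set.diff_subset
  have hcl : IsClosed ({x : C | c ∉ O C x} \ {y}) := by
    apply isClosed_of_finite k C hdim hfin
    rintro x ⟨hx, -⟩ rfl
    exact hx (mem_O_genericPoint C c)
  refine ⟨⟨({x : C | c ∉ O C x} \ {y})ᶜ, hcl.isOpen_compl⟩, ?_, ?_⟩
  · change y ∉ _
    rintro ⟨-, hy⟩
    exact hy rfl
  · intro x hx hxy
    by_contra hcon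
    exact hx ⟨hcon, hxy⟩

end Groth.Agent.Lib.Helper34.Curve
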