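import Groth.Agent.Lib.Helper34.Curve.Places

/-!
# Residue fields at closed points of a curve and at places of the function field (helper34)
-/

set_option autoImplicit false
set_option linter.style.haveILetI false

namespace Groth.Agent.Lib.Helper34.Curve

universe u

open AlgebraicGeometry CategoryTheory FunFld IsLocalRing Groth.Agent.Lib.Helper88.FF

variable (k : Type u) [Field k] (C : Scheme.{u}) [C.Over (Spec (CommRingCat.of k))] [IsIntegral C]
  [Smooth (C ↘ Spec (CommRingCat.of k))] [IsProper (C ↘ Spec (CommRingCat.of k))]
  [GeometricallyIrreducible (C ↘ Spec (CommRingCat.of k))] [PerfectField k]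
  (hdim : topologicalKrullDim C = 1)

/-- The local ring at a closed point is the valuation ring of the corresponding place. -/
noncomputable def stalkEquiv (x : C) (hx : x ≠ genericPoint C) :
    C.presheaf.stalk x ≃+* (placeOf k C hdim x hx).O :=
  RingEquiv.ofBijective
    ((algebraMap (C.presheaf.stalk x) C.functionField).codRestrict
      (placeOf k C hdim x hx).O.toSubring
      (fun a => (Valuation.mem_valuationSubring_iff _ _).2
        ((placeOf_spec k C hdim x hx _).2 ⟨a, rfl⟩)))
    ⟨fun a b h => IsFractionRing.injective (C.presheaf.stalk x) C.functionField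
        (congrArg Subtype.val h),
      fun w => by
        obtain ⟨a, ha⟩ := (placeOf_spec k C hdim x hx w.1).1
          ((Valuation.mem_valuationSubring_iff _ _).1 w.2)
        exact ⟨a, Subtype.ext ha⟩⟩

lemma stalkEquiv_apply (x : C) (hx : x ≠ genericPoint C) (a : C.presheaf.stalk x) :
    ((stalkEquiv k C hdim x hx a : (placeOf k C hdim x hx).O) : C.functionField) =
      algebraMap (C.presheaf.stalk x) C.functionField a := rfl

/-- The degree of a closed point is the degree of the corresponding place. -/
theorem finrank_residueField (x : C) (hx : x ≠ genericPoint C) :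
    letI := Curv2.resAlgebra k C x
    Module.finrank k (C.residueField x) = (placeOf k C hdim x hx).deg := by
  letI := Curv2.resAlgebra k C x
  unfold Place.deg
  refine Algebra.finrank_eq_of_equiv_equiv (RingEquiv.refl k)
    (IsLocalRing.ResidueField.mapEquiv (stalkEquiv k C hdim x hx)) ?_
  ext c
  change algebraMap k (IsLocalRing.ResidueField (placeOf k C hdim x hx).O) c =
    IsLocalRing.ResidueField.map (stalkEquiv k C hdim x hx : _ →+* _)
      (IsLocalRing.residue _ (Curv2.stalkMap k C x c))
  rw [IsLocalRing.ResidueField.map_residue]
  change IsLocalRing.residue _ (algebraMap k (placeOf k C hdim x hx).O c) = _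
  congr 1
  apply Subtype.ext
  change algebraMap k C.functionField c = algebraMap (C.presheaf.stalk x) C.functionField _
  exact IsScalarTower.algebraMap_apply k (C.presheaf.stalk x) C.functionField c

end Groth.Agent.Lib.Helper34.Curve
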