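import Groth.Agent.Lib.Helper34.Curve.Count
import Groth.Agent.Lib.Helper34.Adelic.Card
import Groth.Agent.Lib.Helper34.RH.Bound

/-!
# The Weil conjectures for curves over finite fields (helper34)
-/

set_option autoImplicit false
set_option linter.style.haveILetI false

namespace Groth.Agent.Lib.Helper34.Curve

universe u

open AlgebraicGeometry CategoryTheory FunFld
open Groth.Agent.Lib.Helper34.FunFldZetaLog

variable (k : Type u) [Field k] [Finite k] (C : Scheme.{u}) [C.Over (Spec (CommRingCat.of k))]
  [IsIntegral C] [Smooth (C ↘ Spec (CommRingCat.of k))] [IsProper (C ↘ Spec (CommRingCat.of k))]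
  [GeometricallyIrreducible (C ↘ Spec (CommRingCat.of k))]
  (hdim : topologicalKrullDim C = 1)

include hdim in
/-- The genus defined through `#H¹(C, O_C)` is the genus of the function field. -/
theorem genus_eq (g : ℕ)
    (hg : Nat.card (Coh.HH C (Coh.structureModule C) 1) = Nat.card k ^ g) :
    g = genus k C.functionField := by
  rw [card_H1 k C hdim] at hg
  exact (Nat.pow_right_injective (Finite.one_lt_card (α := k)) hg).symm

include hdim in
/-- Weil conjectures for a curve, with the genus of the function field. -/
theorem weil_genus :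
    ∃ α : Fin (2 * genus k C.functionField) → ℂ, (∀ i, IsIntegral ℤ (α i)) ∧
      (∀ i, ‖α i‖ ^ 2 = Nat.card k) ∧
      (∃ σ : Equiv.Perm (Fin (2 * genus k C.functionField)),
        ∀ i, α (σ i) * α i = Nat.card k) ∧
      ∀ (k' : Type u) [Field k'] [Algebra k k'] [Finite k'],
        (SgaExt.pointCount (C ↘ Spec (CommRingCat.of k)) k' : ℂ) =
          (Nat.card k : ℂ) ^ Module.finrank k k' + 1 - ∑ i, α i ^ Module.finrank k k' := by
  have hK := isFunctionField k C hdim
  obtain ⟨α, hint, hα, hpair, hnorm⟩ :=
    Groth.Agent.Lib.Helper34.RH.Bound.exists_factorization_full hK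
  refine ⟨α, hint, hnorm, ⟨Fin.revPerm, fun i => ?_⟩, ?_⟩
  · rw [mul_comm]
    exact hpair i
  · intro k' _ _ _
    rw [pointCount_eq_Nr k C hdim k',
      Groth.Agent.Lib.Helper34.FunFldZetaLog2.Nr_formula hK Finset.univ α hα
        (Module.finrank_pos (R := k) (M := k'))]
    ring

include hdim in
/-- Hasse–Weil bound for a curve, with the genus of the function field. -/
theorem hasseWeil_genus (k' : Type u) [Field k'] [Algebra k k'] [Finite k'] :
    |(SgaExt.pointCount (C ↘ Spec (CommRingCat.of k)) k' : ℝ) -
        ((Nat.card k : ℝ) ^ Module.finrank k k' + 1)| ≤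
      2 * (genus k C.functionField : ℝ) *
        (Nat.card k : ℝ) ^ ((Module.finrank k k' : ℝ) / 2) := by
  rw [pointCount_eq_Nr k C hdim k']
  exact Groth.Agent.Lib.Helper34.RH.Bound.abs_Nr_sub_le (isFunctionField k C hdim)
    (Module.finrank_pos (R := k) (M := k'))

end Groth.Agent.Lib.Helper34.Curve
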